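import Mathlib

/-!
# Products of a hyperplane of a finite algebra
-/

set_option autoImplicit false

namespace Groth.Agent.H29GenusOne.NormalGen

/-- In an algebra of dimension at least three, products of a subspace of codimension at most one which
contains `1` and no nonzero ideal span everything. -/
theorem span_products_eq_top {k A : Type*} [Field k] [CommRing A] [Algebra k A] [Module.Finite k A]
    (hA : 3 ≤ Module.finrank k A) (V P : Submodule k A) (hV : Module.finrank k A ≤ Module.finrank k V + 1)
    (h1 : (1 : A) ∈ V) (hI : ∀ I : Ideal A, (∀ x ∈ I, x ∈ V) → I = ⊥)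
    (hP : ∀ x ∈ V, ∀ y ∈ V, x * y ∈ P) : P = ⊤ := by
  by_contra hne
  have hVP : V ≤ P := fun x hx => by simpa using hP x hx 1 h1
  have h2 := Submodule.finrank_lt hne
  have h3 := Submodule.finrank_mono hVP
  have hPV : P = V := (Submodule.eq_of_le_of_finrank_le hVP (by omega)).symm
  subst hPV
  obtain ⟨a, ha⟩ : ∃ a : A, a ∉ P := by
    by_contra h
    push Not at h
    exact hne (eq_top_iff.2 fun x _ => h x)
  have hdec : P ⊔ (k ∙ a) = ⊤ := Submodule.eq_top_of_finrank_eq (le_antisymm (Submodule.finrank_le _) (by
    have := Submodule.finrank_lt_finrank_of_lt (show P < P ⊔ (k ∙ a) from lt_of_le_of_ne le_sup_left fun h =>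
      ha (h ▸ (le_sup_right : (k ∙ a) ≤ _) (Submodule.mem_span_singleton_self a)))
    omega))
  have hm : ∀ x ∈ P, x * a ∈ P → ∀ y : A, x * y ∈ P := fun x hx hxa y => by
    obtain ⟨p, hp, q, hq, rfl⟩ := Submodule.mem_sup.1 (hdec.ge (Submodule.mem_top (x := y)))
    obtain ⟨c, rfl⟩ := Submodule.mem_span_singleton.1 hq
    rw [mul_add, mul_smul_comm]
    exact add_mem (hP x hx p hp) (P.smul_mem c hxa)
  let I : Ideal A :=
    { carrier := {x | ∀ y : A, x * y ∈ P}
      zero_mem' := fun y => by simp
      add_mem' := fun {x x'} hx hx' y => by rw [add_mul]; exact add_mem (hx y) (hx' y)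
      smul_mem' := fun c x hx y => by
        show c * x * y ∈ P
        rw [show c * x * y = x * (c * y) by ring]
        exact hx _ }
  have hIbot : I = ⊥ := hI I fun x hx => by simpa using hx 1
  let f : P →ₗ[k] A ⧸ P := (P.mkQ.comp ((LinearMap.mulRight k a).comp P.subtype))
  have hf : Function.Injective f := by
    rw [← LinearMap.ker_eq_bot, eq_bot_iff]
    rintro ⟨x, hx⟩ hfx
    have hxa : x * a ∈ P := by simpa [f] using hfx
    have hxI : x ∈ I := hm x hx hxa
    rw [hIbot] at hxI
    simpa using hxI
  have h4 := LinearMap.finrank_le_finrank_of_injective hf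
  have h5 := P.finrank_quotient_add_finrank
  omega

end Groth.Agent.H29GenusOne.NormalGen
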