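import Groth.Agent.H29GenusOne.NormalGen.Sections
import Groth.Agent.H29GenusOne.NormalGen.Algebra
import Groth.Agent.H29GenusOne.SingularGen
import Groth.Agent.H22Alg.CurveAmple
import Groth.Agent.H22Alg.CMField
import Groth.Agent.H17.Ample.GenAffine

/-!
# Normal generation in degree at least three on integral curves of genus one over an infinite field
-/

set_option autoImplicit false
set_option linter.style.haveILetI false
set_option linter.unusedSectionVars false
set_option backward.isDefEq.respectTransparency.types false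
universe u

open CategoryTheory CategoryTheory.Limits AlgebraicGeometry TopologicalSpace Opposite
open Groth.Agent Groth.Agent.H11Tilde Groth.Agent.H11Ample Groth.Agent.H22Alg.CMField
open Groth.Agent.H29RR (sec)

namespace Groth.Agent.H29GenusOne.NormalGen

attribute [local instance 10000] H10Coh.hasSheafifyAb H10Coh.hasWeakSheafifyAb H10Coh.hasExtAb H10Coh.enoughInjAb

variable {X : Scheme.{u}}

theorem app_sum {M N : X.Modules} {ι : Type*} (s : Finset ι) (f : ι → (M ⟶ N)) (U : X.Opens) (x : Γ(M, U)) :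
    (∑ i ∈ s, f i).app U x = ∑ i ∈ s, (f i).app U x := by
  classical
  induction s using Finset.induction_on with
  | empty => rfl
  | insert a s ha ih => rw [Finset.sum_insert ha, Finset.sum_insert ha, ← ih]; rfl

/-- The image of a map out of a finite free module lies in the span of the restricted generators. -/
theorem app_desc_mem_span {L : X.Modules} {n : ℕ} (g : Fin n → Γ(L, ⊤)) (U : X.Opens)
    (y : Γ(FlatMod.freeMod X n, U)) :
    (Sigma.desc (fun i => homOfGlobal L (g i)) : FlatMod.freeMod X n ⟶ L).app U y ∈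
      Submodule.span Γ(X, U) (Set.range fun i => L.presheaf.map (homOfLE (le_top : U ≤ ⊤)).op (g i)) := by
  classical
  let p : Fin n → (FlatMod.freeMod X n ⟶ Coh.structureModule X) := fun i =>
    Sigma.desc fun j => if j = i then 𝟙 (Coh.structureModule X) else 0
  have h : (Sigma.desc (fun i => homOfGlobal L (g i)) : FlatMod.freeMod X n ⟶ L) =
      ∑ i, p i ≫ homOfGlobal L (g i) := by
    refine Sigma.hom_ext _ _ fun j => ?_
    simp only [p, Sigma.ι_desc, Preadditive.comp_sum, Sigma.ι_desc_assoc]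
    rw [Finset.sum_eq_single j]
    · rw [if_pos rfl, Category.id_comp]
    · intro b _ hb; rw [if_neg (Ne.symm hb), zero_comp]
    · intro hj; exact absurd (Finset.mem_univ j) hj
  rw [h, app_sum]
  refine Submodule.sum_mem _ fun i _ => ?_
  show (homOfGlobal L (g i)).app U ((p i).app U y) ∈ _
  rw [homOfGlobal_app]
  exact Submodule.smul_mem _ _ (Submodule.subset_span ⟨i, rfl⟩)

variable {k : Type u} [Field k] [X.Over (Spec (CommRingCat.of k))] [IsProper (X ↘ Spec (CommRingCat.of k))]
  [IsIntegral X]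

/-- Outside the support of `O → L` the section generates. -/
theorem mem_gen_of_notMem {L : X.Modules} (hL : PicF.IsInvertible L) (s : Γ(L, ⊤)) {y : X}
    (hy : y ∉ CohB1.support (cokernel (homOfGlobal L s))) : y ∈ gen L s := by
  obtain ⟨V, e, hyV, he⟩ := exists_gen hL y
  obtain ⟨c, hc⟩ := exists_coeff he (L.presheaf.map (homOfLE (le_top : V ≤ ⊤)).op s)
  refine ((gen_inf_eq_basicOpen he s c hc).ge ((bijective_smul_iff he c hyV).1 ?_)).1
  have hbe := he y hyV
  rw [← hc, TopCat.Presheaf.germ_res_apply]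
  have hg : L.presheaf.germ ⊤ y trivial s =
      X.presheaf.germ V y hyV c • L.presheaf.germ V y hyV e := by
    rw [← TopCat.Presheaf.germ_res_apply L.presheaf (homOfLE (le_top : V ≤ ⊤)) y hyV, hc]
    exact H17.AssPts.germ_smul' _ _ _ _
  have hs : Function.Surjective fun r : X.presheaf.stalk y => r • L.presheaf.germ ⊤ y trivial s := fun v => by
    obtain ⟨w, rfl⟩ := H29RR.surjective_stalk_of_notMem_support _ hy v
    obtain ⟨r, rfl⟩ := (H11Ample.isGen_one (X := X) ⊤ y trivial).2 w
    refine ⟨r, ?_⟩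
    beta_reduce
    rw [map_smul, H29RR.germ_app, homOfGlobal_app]
    congr 2
    exact ((one_smul _ _).trans (ConcreteCategory.congr_hom (L.presheaf.map_id (op ⊤)) _)).symm
  refine ⟨fun a b hab => ?_, hs⟩
  obtain ⟨r, hr⟩ := hs (L.presheaf.germ V y hyV e)
  simp only [hg, smul_smul] at hab hr
  have h1 : r * X.presheaf.germ V y hyV c = 1 := hbe.1 (by simpa using hr)
  have h2 := hbe.1 hab
  calc a = a * X.presheaf.germ V y hyV c * r := by rw [mul_assoc, mul_comm _ r, h1, mul_one]
    _ = b * X.presheaf.germ V y hyV c * r := by rw [h2]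
    _ = b := by rw [mul_assoc, mul_comm _ r, h1, mul_one]

/-- Degree at least three: `H⁰(L) ⊗ H⁰(L) → H⁰(L ⊗ L)` is surjective. -/
theorem spanned_self [Infinite k] (hdim : topologicalKrullDim X = 1) (hg : Curv2.genus k X = 1) {L : X.Modules}
    (hL : PicF.IsInvertible L) (hdeg : 3 ≤ Curv2.deg k X L 1) : Spanned L L := by
  classical
  haveI := H29RR.isNoetherian_of_proper (k := k) (X := X)
  have h0 := h0_eq_one_of_genus_one (k := k) (X := X) hg
  have hgg := isGloballyGenerated_of_two_le_deg (k := k) hdim.le hg hL (by omega)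
  haveI := H29CurveDual.subsingleton_h1_of_deg_ge (k := k) hdim.le h0 hL (by rw [hg]; push_cast; omega)
  have hA := H22Alg.CurveAmple.isAmple_of_deg_pos (k := k) hdim hL (by omega)
  have hLc := H11Ample.isCoh_of_isInvertible hL
  have hOc := H10Coh.isCoh_structureModule' X
  haveI := H10Coh.finite_HH_proper k X L hLc 0
  haveI := H10Coh.finite_HH_proper k X _ hOc 0
  have hrr := H29RR.riemann_roch (k := k) hdim.le L
  rw [h0, Module.finrank_zero_of_subsingleton (R := k) (M := Coh.HH X L 1)] at hrr
  rw [hg] at hrr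
  rw [Curv2.genus] at hg
  obtain ⟨v₀, hv₀⟩ : ∃ v : Coh.HH X L 0, v ≠ 0 := by
    haveI : Nontrivial (Coh.HH X L 0) := Module.nontrivial_of_finrank_pos (R := k) (by omega)
    exact exists_ne 0
  let s := sec L v₀
  let φs := homOfGlobal L s
  obtain ⟨hmono, hη⟩ := H29CurveDual.mono_homOfGlobal_sub hL (𝟙 L) (g := s)
    (fun h => hv₀ ((sec L).injective (h.trans (map_zero _).symm)))
  haveI : Mono φs := hmono
  obtain ⟨hCc, hfin, hcl, heul⟩ := H29RR.euler_sub_of_mono (k := k) hdim.le hOc hLc φs hη
  let C := cokernel φs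
  haveI := H10Coh.finite_HH_proper k X C hCc 0
  have hd : (Module.finrank k (Coh.HH X (cokernel φs) 0) : ℤ) = Curv2.deg k X L 1 := by
    rw [H29RR.deg_def, heul]; omega
  have hScl : IsClosed (CohB1.support C) := H10Coh.isClosed_support _ hCc.2
  have hsub : ∀ y, y ∉ CohB1.support C → Subsingleton (C.presheaf.stalk y) := fun y hy => not_not.1 hy
  obtain ⟨t, ht⟩ := exists_gen_finset (k := k) hL hgg hfin
  let Y := gen L t
  have hY : IsAffineOpen Y := H17.GenAffine.isAffineOpen_gen (X ↘ Spec (CommRingCat.of k)) hA t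
  have hSY : CohB1.support C ⊆ Y := fun y hy => ht y hy
  let e : Γ(L, Y) := L.presheaf.map (homOfLE (le_top : Y ≤ ⊤)).op t
  have he : IsGen L e := isGen_gen t
  have huniq : ∀ {a b : Γ(X, Y)}, a • e = b • e → a = b := fun {a b} h =>
    (he.bijective le_rfl).1 (by beta_reduce; rw [H10Coh.mres_self]; exact h)
  let res : Γ(X, ⊤) →+* Γ(X, Y) := (X.presheaf.map (homOfLE (le_top : Y ≤ ⊤)).op).hom
  let ι : k →+* Γ(X, Y) := res.comp (H10Coh.globA (A := k) (X := X))
  letI : Algebra k Γ(X, Y) := ι.toAlgebra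
  choose cf hcf using fun u : Γ(L, ⊤) => exists_coeff he (L.presheaf.map (homOfLE (le_top : Y ≤ ⊤)).op u)
  have hcf_add : ∀ u v, cf (u + v) = cf u + cf v := fun u v => huniq (by
    rw [← hcf, map_add, hcf, hcf, add_smul])
  have hcf_smul : ∀ (r : Γ(X, ⊤)) u, cf (r • u) = res r * cf u := fun r u => huniq (by
    rw [← hcf, Scheme.Modules.map_smul, hcf, smul_smul])
  have hcft : cf t = 1 := huniq (by rw [← hcf, one_smul])
  let z := cf s
  let I0 : Ideal Γ(X, Y) := Ideal.span {z}
  let A := Γ(X, Y) ⧸ I0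
  -- the quotient as sections of the cokernel
  let G0 : Coh.HH X C 0 → Γ(C, Y) := fun x => C.presheaf.map (homOfLE (le_top : Y ≤ ⊤)).op (sec C x)
  have hG0 : Function.Bijective G0 := (bijective_res_of_support hScl hsub hSY).comp (sec C).bijective
  have hG0s : ∀ (c : k) x, G0 (c • x) = ι c • G0 x := fun c x => by
    simp only [G0]
    rw [H29RR.sec_smul, Scheme.Modules.map_smul]; rfl
  have hG0a : ∀ x y, G0 (x + y) = G0 x + G0 y := fun x y => by
    simp only [G0]
    rw [map_add, map_add]
  let E0 : Coh.HH X C 0 ≃+ Γ(C, Y) := AddEquiv.ofBijective (AddMonoidHom.mk' G0 hG0a) hG0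
  let f : Γ(X, Y) →ₗ[k] Coh.HH X C 0 :=
    { toFun := fun b => E0.symm ((cokernel.π φs).app Y (b • e))
      map_add' := fun a b => by rw [add_smul, map_add, map_add]
      map_smul' := fun c b => E0.injective (by
        rw [AddEquiv.apply_symm_apply, RingHom.id_apply, show c • b = ι c * b from rfl, mul_smul,
          Scheme.Modules.Hom.app_smul]
        show _ = G0 (c • _)
        rw [hG0s]
        exact congrArg (ι c • ·) (E0.apply_symm_apply _).symm) }
  have hfker : ∀ b, f b = 0 ↔ b ∈ I0 := fun b => by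
    show E0.symm _ = 0 ↔ _
    rw [AddEquiv.map_eq_zero_iff, Ideal.mem_span_singleton']
    refine ⟨fun hb => ?_, ?_⟩
    · obtain ⟨y, hy⟩ := exists_app_of_cokernel_app_eq_zero φs hOc.1 hLc.1 hY hb
      refine ⟨y, huniq ?_⟩
      rw [← hy, mul_smul, ← hcf]
      exact (homOfGlobal_app L s Y y).symm
    · rintro ⟨c, rfl⟩
      rw [mul_smul, ← hcf, ← homOfGlobal_app L s Y c]
      exact congr($(congrArg (fun g => Scheme.Modules.Hom.app g Y) (cokernel.condition φs)) c)
  have hfsurj : Function.Surjective f := fun x => by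
    haveI : L.IsQuasicoherent := hLc.1
    haveI : C.IsQuasicoherent := hCc.1
    obtain ⟨w, hw⟩ := H10Coh.surjective_app_of_epi (cokernel.π φs) hY (E0 x)
    obtain ⟨b, rfl⟩ := exists_coeff he w
    exact ⟨b, E0.injective (by rw [← hw]; exact E0.apply_symm_apply _)⟩
  have hker : LinearMap.ker f = I0.restrictScalars k := Submodule.ext fun b => hfker b
  let EA : A ≃ₗ[k] Coh.HH X C 0 := (Submodule.Quotient.restrictScalarsEquiv k I0).symm ≪≫ₗ
    Submodule.quotEquivOfEq _ _ hker.symm ≪≫ₗ f.quotKerEquivOfSurjective hfsurj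
  haveI : Module.Finite k A := Module.Finite.equiv EA.symm
  have hdimA : Module.finrank k A = Module.finrank k (Coh.HH X (cokernel φs) 0) := EA.finrank_eq
  -- the image of the sections
  let ψ : Coh.HH X L 0 →ₗ[k] A :=
    { toFun := fun v => Ideal.Quotient.mk I0 (cf (sec L v))
      map_add' := fun a b => by rw [map_add, hcf_add, map_add]
      map_smul' := fun c a => by rw [H29RR.sec_smul, hcf_smul, RingHom.id_apply]; rfl }
  let V := LinearMap.range ψ
  have hexφ : ∀ v, ψ v = 0 → v ∈ LinearMap.range (Canon.HHlin k φs 0) := fun v hv => by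
    have h1 : f (cf (sec L v)) = 0 := (hfker _).2 (Ideal.Quotient.eq_zero_iff_mem.1 hv)
    change E0.symm _ = 0 at h1
    rw [AddEquiv.map_eq_zero_iff] at h1
    rw [← hcf] at h1
    have h2 : Canon.HHlin k (cokernel.π φs) 0 v = 0 := hG0.1 (by
      show G0 _ = G0 0
      rw [show G0 0 = 0 from map_zero (AddMonoidHom.mk' G0 hG0a)]
      simp only [G0]
      rw [H29RR.sec_natural (k := k)]
      exact (ConcreteCategory.congr_hom ((cokernel.π φs).mapPresheaf.naturality
        (homOfLE (le_top : Y ≤ ⊤)).op) (sec L v)).symm.trans h1)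
    have hS : (ShortComplex.mk φs (cokernel.π φs) (cokernel.condition φs)).ShortExact :=
      { exact := ShortComplex.exact_cokernel _ }
    exact (H25Par.hhlin_exact (k := k) hS).le h2
  have hrkV : Module.finrank k A ≤ Module.finrank k V + 1 := by
    show _ ≤ Module.finrank k (LinearMap.range ψ) + 1
    have h1 := LinearMap.finrank_range_add_finrank_ker ψ
    have h2 := Submodule.finrank_mono (show LinearMap.ker ψ ≤ LinearMap.range (Canon.HHlin k φs 0) from hexφ)
    have h3 := LinearMap.finrank_range_le (Canon.HHlin k φs 0)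
    omega
  have hψv₀ : ψ v₀ = 0 := Ideal.Quotient.eq_zero_iff_mem.2 (Ideal.subset_span rfl)
  have h1V : (1 : A) ∈ V := ⟨(sec L).symm t, by
    show Ideal.Quotient.mk I0 (cf (sec L ((sec L).symm t))) = 1
    rw [AddEquiv.apply_symm_apply, hcft, map_one]⟩
  have hideal : ∀ I : Ideal A, (∀ x ∈ I, x ∈ V) → I = ⊥ := by
    intro I hIV
    let T0 := (I.restrictScalars k).comap ψ
    let n := Module.finrank k T0
    let β := Module.finBasis k T0
    let g : Fin (n + 1) → Γ(L, ⊤) := Fin.cons s fun i => sec L (β i).1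
    let φ : FlatMod.freeMod X (n + 1) ⟶ L := Sigma.desc fun i => homOfGlobal L (g i)
    have hFc : Coh.IsCoh (FlatMod.freeMod X (n + 1)) :=
      H16Derived.KFlat.Stalk.isCoh_of_isFinLocFree (H22Alg.KModel.finLocFree_free (n + 1))
    have hG : Coh.IsCoh (Abelian.image φ) :=
      H10Coh.isCoh_kernel _ hLc (H10Coh.isCoh_cokernel φ hFc.1 hLc).1
    haveI := H10Coh.finite_HH_proper k X _ hG 0
    haveI := H10Coh.finite_HH_proper k X _ hG 1
    let j : Abelian.image φ ⟶ L := Abelian.image.ι φ
    let π' := cokernel.π j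
    have hw : φs ≫ π' = 0 := by
      have h1 : Sigma.ι (fun _ : Fin (n + 1) => Coh.structureModule X) 0 ≫ φ = φs := Sigma.ι_desc _ _
      have hfac : Abelian.factorThruImage φ ≫ j = φ := Abelian.image.fac φ
      calc φs ≫ π' = (Sigma.ι (fun _ : Fin (n + 1) => Coh.structureModule X) 0 ≫
            (Abelian.factorThruImage φ ≫ j)) ≫ π' := by rw [hfac, h1]
        _ = 0 := by simp [π']
    haveI : Epi (cokernel.desc φs π' hw) := epi_of_epi_fac (cokernel.π_desc φs π' hw)
    let C' := cokernel j
    have hsub' : ∀ y, y ∉ CohB1.support C → Subsingleton (C'.presheaf.stalk y) := fun y hy =>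
      H25Par.subsingleton_stalk_of_epi (cokernel.desc φs π' hw) (hsub y hy)
    have hηj : genericPoint X ∉ CohB1.support C' := fun h => h (hsub' _ hη)
    obtain ⟨hC'c, -, -, heulG⟩ := H29RR.euler_sub_of_mono (k := k) hdim.le hG hLc j hηj
    haveI := H10Coh.finite_HH_proper k X C' hC'c 0
    let G1 : Coh.HH X C' 0 → Γ(C', Y) := fun x => C'.presheaf.map (homOfLE (le_top : Y ≤ ⊤)).op (sec C' x)
    have hG1 : Function.Bijective G1 := (bijective_res_of_support hScl hsub' hSY).comp (sec C').bijective
    let E1 : Coh.HH X C' 0 ≃+ Γ(C', Y) := AddEquiv.ofBijective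
      (AddMonoidHom.mk' G1 fun x y => by simp only [G1]; rw [map_add, map_add]) hG1
    let f' : Γ(X, Y) →ₗ[k] Coh.HH X C' 0 :=
      { toFun := fun b => E1.symm (π'.app Y (b • e))
        map_add' := fun a b => by rw [add_smul, map_add, map_add]
        map_smul' := fun c b => E1.injective (by
          rw [AddEquiv.apply_symm_apply, RingHom.id_apply, show c • b = ι c * b from rfl, mul_smul,
            Scheme.Modules.Hom.app_smul]
          show _ = G1 (c • _)
          simp only [G1]
          rw [H29RR.sec_smul, Scheme.Modules.map_smul]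
          exact congrArg (ι c • ·) (E1.apply_symm_apply _).symm) }
    have hf'surj : Function.Surjective f' := fun x => by
      haveI : L.IsQuasicoherent := hLc.1
      haveI : C'.IsQuasicoherent := hC'c.1
      obtain ⟨w, hw'⟩ := H10Coh.surjective_app_of_epi π' hY (E1 x)
      obtain ⟨b, rfl⟩ := exists_coeff he w
      exact ⟨b, E1.injective (by rw [← hw']; exact E1.apply_symm_apply _)⟩
    let q : Γ(X, Y) →ₗ[k] A ⧸ I.restrictScalars k :=
      (I.restrictScalars k).mkQ.comp (Ideal.Quotient.mkₐ k I0).toLinearMap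
    have hqker : LinearMap.ker f' ≤ LinearMap.ker q := fun b hb => by
      change E1.symm _ = 0 at hb
      rw [AddEquiv.map_eq_zero_iff] at hb
      obtain ⟨y, hy⟩ := exists_app_of_cokernel_app_eq_zero j hG.1 hLc.1 hY hb
      haveI : (FlatMod.freeMod X (n + 1)).IsQuasicoherent := hFc.1
      haveI : (Abelian.image φ).IsQuasicoherent := hG.1
      obtain ⟨w, rfl⟩ := H10Coh.surjective_app_of_epi (Abelian.factorThruImage φ) hY y
      have hy' : φ.app Y w = b • e :=
        (congr($(congrArg (fun g => Scheme.Modules.Hom.app g Y) (Abelian.image.fac φ)) w)).symm.trans hy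
      have hmem := app_desc_mem_span g Y w
      change φ.app Y w ∈ _ at hmem
      rw [hy'] at hmem
      obtain ⟨c, hc⟩ := (Submodule.mem_span_range_iff_exists_fun _).1 hmem
      have hb' : b = ∑ i, c i * cf (g i) := huniq (by
        rw [Finset.sum_smul, ← hc]
        exact Finset.sum_congr rfl fun i _ => by rw [hcf, smul_smul])
      show Submodule.Quotient.mk (Ideal.Quotient.mk I0 b) = 0
      rw [Submodule.Quotient.mk_eq_zero, hb', map_sum]
      refine Submodule.sum_mem _ fun i _ => ?_
      rw [Submodule.restrictScalars_mem, map_mul]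
      refine Ideal.mul_mem_left _ _ ?_
      refine Fin.cases ?_ (fun l => ?_) i
      · show Ideal.Quotient.mk I0 (cf s) ∈ I
        rw [(Ideal.Quotient.eq_zero_iff_mem (I := I0)).2 (Ideal.subset_span (s := ({z} : Set Γ(X, Y))) rfl)]
        exact zero_mem _
      · simp only [g, Fin.cons_succ]
        exact (β l).2
    have hqsurj : Function.Surjective q :=
      (Submodule.mkQ_surjective _).comp Ideal.Quotient.mk_surjective
    have hAI : Module.finrank k (A ⧸ I.restrictScalars k) ≤ Module.finrank k (Coh.HH X C' 0) := by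
      let h := ((LinearMap.ker f').liftQ q hqker).comp (f'.quotKerEquivOfSurjective hf'surj).symm.toLinearMap
      refine LinearMap.finrank_le_finrank_of_surjective (f := h) ?_
      show Function.Surjective (((LinearMap.ker f').liftQ q hqker) ∘ (f'.quotKerEquivOfSurjective hf'surj).symm)
      refine Function.Surjective.comp (fun x => ?_) (f'.quotKerEquivOfSurjective hf'surj).symm.surjective
      obtain ⟨b, rfl⟩ := hqsurj x
      exact ⟨Submodule.Quotient.mk b, Submodule.liftQ_apply _ _ b⟩
    have hT0 : Module.finrank k (I.restrictScalars k : Submodule k A) + 1 ≤ Module.finrank k T0 := by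
      have h1 := LinearMap.finrank_range_add_finrank_ker (ψ.restrict (p := T0) (q := I.restrictScalars k) fun x hx => hx)
      have h2 : LinearMap.range (ψ.restrict (p := T0) (q := I.restrictScalars k) fun x hx => hx) = ⊤ :=
        eq_top_iff.2 fun x _ => by
          obtain ⟨v, hv⟩ := hIV x.1 x.2
          exact ⟨⟨v, show ψ v ∈ I.restrictScalars k from hv ▸ x.2⟩, Subtype.ext hv⟩
      rw [h2, finrank_top] at h1
      have h3 : 0 < Module.finrank k (LinearMap.ker (ψ.restrict (p := T0) (q := I.restrictScalars k) fun x hx => hx)) := by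
        rw [Module.finrank_pos_iff]
        exact nontrivial_of_ne ⟨⟨v₀, show ψ v₀ ∈ I.restrictScalars k from hψv₀ ▸ zero_mem _⟩, Subtype.ext hψv₀⟩ 0
          fun h => hv₀ (congrArg (fun w => w.1.1) h)
      omega
    have hrange : T0 ≤ LinearMap.range (Canon.HHlin k j 0) := by
      rw [← T0.map_subtype_top, ← β.span_eq, Submodule.map_span, Submodule.span_le]
      rintro _ ⟨_, ⟨i, rfl⟩, rfl⟩
      refine ⟨(sec (Abelian.image φ)).symm ((Sigma.ι (fun _ : Fin (n + 1) => Coh.structureModule X) i.succ ≫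
        Abelian.factorThruImage φ).app ⊤ (1 : Γ(X, ⊤))), (sec L).injective ?_⟩
      rw [H29RR.sec_natural (k := k), AddEquiv.apply_symm_apply]
      show ((Sigma.ι (fun _ : Fin (n + 1) => Coh.structureModule X) i.succ ≫ Abelian.factorThruImage φ) ≫ j).app ⊤
        (1 : Γ(X, ⊤)) = _
      rw [Category.assoc, Abelian.image.fac, Sigma.ι_desc]
      exact (homOfGlobal_app L _ ⊤ _).trans ((one_smul _ _).trans
        (ConcreteCategory.congr_hom (L.presheaf.map_id (op ⊤)) _))
    have h5 := (Submodule.finrank_mono hrange).trans (LinearMap.finrank_range_le _)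
    have h6 := (I.restrictScalars k).finrank_quotient_add_finrank
    rw [H29RR.euler_eq_sub (k := k) hdim.le L, H29RR.euler_eq_sub (k := k) hdim.le (Abelian.image φ),
      Module.finrank_zero_of_subsingleton (R := k) (M := Coh.HH X L 1)] at heulG
    change (_ : ℤ) = _ + (Module.finrank k (Coh.HH X C' 0) : ℤ) at heulG
    rcases subsingleton_or_nontrivial (Coh.HH X (Abelian.image φ) 1) with hs1 | hn1
    · rw [Module.finrank_zero_of_subsingleton (R := k) (M := Coh.HH X (Abelian.image φ) 1)] at heulG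
      omega
    · have h7 := H29CurveDual.h0_le_genus_of_h1 (k := k) hdim.le hG hL j hn1
      rw [Curv2.genus, hg] at h7
      have h8 : Module.finrank k (I.restrictScalars k : Submodule k A) = 0 := by omega
      rw [Submodule.finrank_eq_zero] at h8
      exact (Submodule.restrictScalars_eq_bot_iff (R := A) k (p := I)).1 h8
  -- products
  let Pset := AddSubgroup.closure {w : Γ(CohB1.tensorMod L L, ⊤) | ∃ (a : Γ(L, ⊤)) (b : Γ(L, ⊤)), tm a b = w}
  have hPsmul : ∀ (r : Γ(X, ⊤)), ∀ w ∈ Pset, r • w ∈ Pset := fun r w hw => by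
    induction hw using AddSubgroup.closure_induction with
    | mem x hx =>
      obtain ⟨a, b, rfl⟩ := hx
      exact AddSubgroup.subset_closure ⟨r • a, b, tm_smul_left r a b⟩
    | zero => rw [smul_zero]; exact zero_mem _
    | add x y _ _ hx hy => rw [smul_add]; exact add_mem hx hy
    | neg x _ hx => rw [smul_neg]; exact neg_mem hx
  have hee : IsGen (CohB1.tensorMod L L) (tm e e) := isGen_tm he he
  have huniq2 : ∀ {a b : Γ(X, Y)}, a • tm e e = b • tm e e → a = b := fun {a b} h =>
    (hee.bijective le_rfl).1 (by beta_reduce; rw [H10Coh.mres_self]; exact h)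
  choose c2 hc2 using fun w : Γ(CohB1.tensorMod L L, ⊤) =>
    exists_coeff hee ((CohB1.tensorMod L L).presheaf.map (homOfLE (le_top : Y ≤ ⊤)).op w)
  let P : Submodule k A :=
    { carrier := {a | ∃ w ∈ Pset, Ideal.Quotient.mk I0 (c2 w) = a}
      zero_mem' := ⟨0, zero_mem _, by
        rw [show c2 0 = 0 from huniq2 (by rw [← hc2, map_zero, zero_smul]), map_zero]⟩
      add_mem' := by
        rintro _ _ ⟨w, hw, rfl⟩ ⟨w', hw', rfl⟩
        refine ⟨w + w', add_mem hw hw', ?_⟩
        rw [show c2 (w + w') = c2 w + c2 w' from huniq2 (by rw [← hc2, map_add, hc2, hc2, add_smul]), map_add]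
      smul_mem' := by
        rintro c _ ⟨w, hw, rfl⟩
        refine ⟨H10Coh.globA (A := k) (X := X) c • w, hPsmul _ w hw, ?_⟩
        rw [show c2 (H10Coh.globA (A := k) (X := X) c • w) = ι c * c2 w from huniq2 (by
          rw [← hc2, Scheme.Modules.map_smul, hc2, smul_smul]; rfl)]
        rfl }
  have hP : P = ⊤ := span_products_eq_top (by omega) V P hrkV h1V hideal (by
    rintro _ ⟨v, rfl⟩ _ ⟨v', rfl⟩
    refine ⟨tm (sec L v) (sec L v'), AddSubgroup.subset_closure ⟨_, _, rfl⟩, ?_⟩
    rw [show c2 (tm (sec L v) (sec L v')) = cf (sec L v) * cf (sec L v') from huniq2 (by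
      rw [← hc2, tm_res, hcf, hcf, tm_smul_left, tm_smul_right, smul_smul])]
    exact map_mul _ _ _)
  intro S
  obtain ⟨w', hw', hw''⟩ : Ideal.Quotient.mk I0 (c2 S) ∈ P := hP ▸ Submodule.mem_top
  suffices hd' : S - w' ∈ Pset by simpa using add_mem hd' hw'
  obtain ⟨b, hb⟩ := Ideal.mem_span_singleton'.1 ((Ideal.Quotient.eq).1 hw''.symm)
  let D := S - w'
  have hD : (CohB1.tensorMod L L).presheaf.map (homOfLE (le_top : Y ≤ ⊤)).op D =
      (b * z) • tm e e := by
    rw [map_sub, hc2, hc2, ← sub_smul, hb]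
  let G := gen L s
  let sG : Γ(L, G) := L.presheaf.map (homOfLE (le_top : G ≤ ⊤)).op s
  have hsG : IsGen L sG := isGen_gen s
  obtain ⟨c1, hc1⟩ := exists_coeff (isGen_tm hsG hsG)
    ((CohB1.tensorMod L L).presheaf.map (homOfLE (le_top : G ≤ ⊤)).op D)
  let U : ULift.{u} Bool → X.Opens := fun i => if i.down then Y else G
  let uu : ∀ i, Γ(L, U i) := fun i => match i with
    | ⟨true⟩ => b • e
    | ⟨false⟩ => c1 • sG
  have huu : ∀ i, tm (uu i) (L.presheaf.map (homOfLE (le_top : U i ≤ ⊤)).op s) =
      (CohB1.tensorMod L L).presheaf.map (homOfLE (le_top : U i ≤ ⊤)).op D := by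
    rintro ⟨i⟩
    cases i
    · show tm (c1 • sG) sG = _
      rw [tm_smul_left]
      exact hc1.symm
    · show tm (b • e) (L.presheaf.map (homOfLE (le_top : Y ≤ ⊤)).op s) = _
      rw [hcf, tm_smul_left, tm_smul_right, smul_smul]
      exact hD.symm
  have hinj : ∀ (W : X.Opens) (hW : W ≤ G) (p q : Γ(L, W)),
      tm p (L.presheaf.map (homOfLE (le_top : W ≤ ⊤)).op s) = tm q (L.presheaf.map (homOfLE (le_top : W ≤ ⊤)).op s) →
      p = q := by
    intro W hW p q hpq
    have hgW : IsGen L (L.presheaf.map (homOfLE (le_top : W ≤ ⊤)).op s) := by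
      have h := hsG.res hW
      rwa [H10Coh.mres_mres] at h
    obtain ⟨a, rfl⟩ := exists_coeff hgW p
    obtain ⟨a', rfl⟩ := exists_coeff hgW q
    rw [tm_smul_left, tm_smul_left] at hpq
    rw [((isGen_tm hgW hgW).bijective le_rfl).1 (a₁ := a) (a₂ := a')
      (by beta_reduce; rw [H10Coh.mres_self]; exact hpq)]
  have hcmp : TopCat.Presheaf.IsCompatible (H10Coh.sh L).obj U uu := by
    intro i i'
    by_cases hii : i.down = i'.down
    · obtain rfl : i = i' := ULift.ext _ _ hii
      rfl
    · have hW : U i ⊓ U i' ≤ G := by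
        obtain ⟨i⟩ := i
        obtain ⟨i'⟩ := i'
        cases i <;> cases i' <;> simp at hii
        · exact inf_le_left
        · exact inf_le_right
      refine hinj _ hW _ _ ?_
      have h1 := congrArg ((CohB1.tensorMod L L).presheaf.map (homOfLE (inf_le_left : U i ⊓ U i' ≤ U i)).op) (huu i)
      have h2 := congrArg ((CohB1.tensorMod L L).presheaf.map (homOfLE (inf_le_right : U i ⊓ U i' ≤ U i')).op) (huu i')
      rw [tm_res, H10Coh.mres_mres, H10Coh.mres_mres] at h1 h2
      exact h1.trans h2.symm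
  obtain ⟨u, hu, -⟩ := TopCat.Sheaf.existsUnique_gluing (F := H10Coh.sh L) U uu hcmp
  have hcov : (⊤ : X.Opens) ≤ iSup U := fun y _ => by
    by_cases hy : y ∈ CohB1.support C
    · exact Opens.mem_iSup.2 ⟨⟨true⟩, hSY hy⟩
    · exact Opens.mem_iSup.2 ⟨⟨false⟩, mem_gen_of_notMem hL s hy⟩
  let u' : Γ(L, ⊤) := L.presheaf.map (homOfLE hcov).op u
  refine AddSubgroup.subset_closure ⟨u', s, eq_of_locally _ _ fun y _ => ?_⟩
  obtain ⟨i, hi⟩ := Opens.mem_iSup.1 (hcov (trivial : y ∈ (⊤ : X.Opens)))
  refine ⟨U i, le_top, hi, ?_⟩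
  rw [tm_res]
  refine (congrArg (fun p => tm p _) ?_).trans (huu i)
  exact (H10Coh.mres_mres L _ _ _).trans (hu i)

end Groth.Agent.H29GenusOne.NormalGen
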