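import Groth.Agent.H25Par.StalkProd
import Groth.Agent.H29RR.Generation
import Groth.Agent.H29RR.EvalPoint
import Groth.Agent.H29RR.GenPoint
import Groth.Agent.H7Lim.ModExact
import Groth.Agent.H10Coh.FinType2
import Groth.Agent.H11Ample.Tensor

/-!
# Sections of cokernels with small support; sections avoiding finitely many points
-/

set_option autoImplicit false
set_option linter.style.haveILetI false
set_option linter.unusedSectionVars false
universe u

open CategoryTheory CategoryTheory.Limits AlgebraicGeometry TopologicalSpace Opposite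
open Groth.Agent Groth.Agent.H11Tilde Groth.Agent.H11Ample

namespace Groth.Agent.H29GenusOne.NormalGen

attribute [local instance 10000] H10Coh.hasSheafifyAb H10Coh.hasWeakSheafifyAb H10Coh.hasExtAb H10Coh.enoughInjAb

variable {X : Scheme.{u}}

/-- On an affine open the kernel of the projection to the cokernel is the image. -/
theorem exists_app_of_cokernel_app_eq_zero {M L : X.Modules} (φ : M ⟶ L) (hM : Coh.IsQCoh M) (hL : Coh.IsQCoh L)
    {U : X.Opens} (hU : IsAffineOpen U) {x : Γ(L, U)} (hx : (cokernel.π φ).app U x = 0) :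
    ∃ y : Γ(M, U), φ.app U y = x := by
  have hS : (ShortComplex.mk (Abelian.image.ι φ) (cokernel.π φ) (kernel.condition _)).ShortExact :=
    { exact := ShortComplex.exact_kernel _ }
  obtain ⟨z, hz⟩ := H10Coh.exists_app_eq_of_exact hS U x hx
  haveI : M.IsQuasicoherent := hM
  haveI : (Abelian.image φ).IsQuasicoherent :=
    @H10Coh.isQuasicoherent_kernel _ _ _ (cokernel.π φ) hL (@H10Coh.isQuasicoherent_cokernel _ _ _ φ hM hL)
  obtain ⟨y, rfl⟩ := H10Coh.surjective_app_of_epi (Abelian.factorThruImage φ) hU z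
  refine ⟨y, ?_⟩
  rw [← hz]
  exact (congr($(congrArg (fun f => Scheme.Modules.Hom.app f U) (Abelian.image.fac φ)) y)).symm

/-- A module with stalks supported inside an open has the same sections there as globally. -/
theorem bijective_res_of_support {C : X.Modules} {S : Set X} (hS : IsClosed S)
    (h : ∀ y, y ∉ S → Subsingleton (C.presheaf.stalk y)) {Y : X.Opens} (hSY : S ⊆ Y) :
    Function.Bijective (C.presheaf.map (homOfLE (le_top : Y ≤ ⊤)).op : Γ(C, ⊤) → Γ(C, Y)) := by
  let F := H10Coh.sh C
  constructor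
  · intro a b hab
    refine TopCat.Presheaf.section_ext F (⊤ : X.Opens) _ _ fun y _ => ?_
    by_cases hy : y ∈ Y
    · have h1 := congrArg (C.presheaf.germ Y y hy) hab
      erw [TopCat.Presheaf.germ_res_apply, TopCat.Presheaf.germ_res_apply] at h1
      exact h1
    · exact (h y fun hs => hy (hSY hs)).elim _ _
  · intro c
    let U₀ : X.Opens := ⟨Sᶜ, hS.isOpen_compl⟩
    let B : ULift.{u} Bool → X.Opens := fun b => if b.down then Y else U₀
    let t : ∀ b, F.obj.obj (op (B b)) := fun b =>
      if hb : b.down = true then F.obj.map (homOfLE (show B b ≤ Y by simp only [B, hb, if_true]; exact le_rfl)).op c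
      else 0
    have hcmp : TopCat.Presheaf.IsCompatible F.obj B t := by
      intro a b
      by_cases hab : a.down = b.down
      · obtain rfl : a = b := ULift.ext _ _ hab
        rfl
      · refine (H25Par.section_eq_zero F (fun z hz => h z fun hzS => ?_) _).trans
          (H25Par.section_eq_zero F (fun z hz => h z fun hzS => ?_) _).symm <;>
        · obtain ⟨a⟩ := a
          obtain ⟨b⟩ := b
          cases a <;> cases b <;> simp at hab
          all_goals
            simp [B, U₀] at hz
            tauto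
    obtain ⟨g, hg, -⟩ := TopCat.Sheaf.existsUnique_gluing (F := F) B t hcmp
    have hcov : (⊤ : X.Opens) ≤ iSup B := fun z _ => by
      by_cases hz : z ∈ S
      · exact Opens.mem_iSup.2 ⟨⟨true⟩, hSY hz⟩
      · exact Opens.mem_iSup.2 ⟨⟨false⟩, hz⟩
    refine ⟨F.obj.map (homOfLE hcov).op g, ?_⟩
    refine TopCat.Presheaf.section_ext F Y _ _ fun y hy => ?_
    have h1 : F.obj.map (Opens.leSupr B ⟨true⟩).op g = t ⟨true⟩ := hg ⟨true⟩
    have h2 := congrArg (TopCat.Presheaf.germ F.obj (B ⟨true⟩) y hy) h1
    erw [TopCat.Presheaf.germ_res_apply] at h2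
    simp only [t, dif_pos] at h2
    erw [TopCat.Presheaf.germ_res_apply] at h2
    erw [TopCat.Presheaf.germ_res_apply, TopCat.Presheaf.germ_res_apply]
    exact h2

/-- A generating section in the image kills the stalk of the cokernel. -/
theorem subsingleton_stalk_cokernel_of_gen {M L : X.Modules} (hL : PicF.IsInvertible L) (φ : M ⟶ L) (u : Γ(M, ⊤))
    {y : X} (hy : y ∈ gen L (φ.app ⊤ u)) : Subsingleton ((cokernel φ).presheaf.stalk y) := by
  have hs : Function.Surjective (H06Mod.stalkLin φ y) := fun v => by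
    obtain ⟨r, hr⟩ := ((mem_gen_iff hL _ y).1 hy).2 v
    refine ⟨r • M.presheaf.germ ⊤ y trivial u, ?_⟩
    rw [map_smul, H29RR.germ_app]
    exact hr
  let T := DerSch.stalkFunctor X y
  haveI : Epi (T.map φ) := (ModuleCat.epi_iff_surjective _).2 hs
  have h0 : T.map (cokernel.π φ) = 0 := by
    rw [← cancel_epi (T.map φ), ← Functor.map_comp, cokernel.condition, T.map_zero, comp_zero]
  refine subsingleton_of_forall_eq 0 fun v => ?_
  obtain ⟨w, rfl⟩ := (ModuleCat.epi_iff_surjective _).1 (inferInstance : Epi (T.map (cokernel.π φ))) v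
  rw [h0]
  rfl

variable {k : Type u} [Field k] [X.Over (Spec (CommRingCat.of k))]

/-- Over an infinite field some section generates at finitely many given points. -/
theorem exists_gen_finset [Infinite k] {L : X.Modules} (hL : PicF.IsInvertible L) (hgg : Curv2.IsGloballyGenerated L)
    {S : Set X} (hS : S.Finite) : ∃ g : Γ(L, ⊤), ∀ y ∈ S, y ∈ gen L g := by
  classical
  haveI := hS.fintype
  let φ : k →+* Γ(X, ⊤) := H10Coh.globA (A := k) (X := X)
  letI : Module k Γ(L, ⊤) := Module.compHom _ φ
  let P : S → Submodule k Γ(L, ⊤) := fun i =>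
    { carrier := {g | i.1 ∉ gen L g}
      zero_mem' := fun h => by
        have hb := (mem_gen_iff hL (0 : Γ(L, ⊤)) i.1).1 h
        rw [map_zero] at hb
        exact zero_ne_one (hb.1 (a₁ := (0 : X.presheaf.stalk i.1)) (a₂ := 1) (by simp))
      add_mem' := fun {a b} ha hb h => by
        obtain ⟨V, e, hyV, he⟩ := exists_gen hL i.1
        obtain ⟨ca, hca⟩ := exists_coeff he (L.presheaf.map (homOfLE le_top).op a)
        obtain ⟨cb, hcb⟩ := exists_coeff he (L.presheaf.map (homOfLE le_top).op b)
        have hab : L.presheaf.map (homOfLE (le_top : V ≤ ⊤)).op (a + b) = (ca + cb) • e := by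
          rw [map_add, hca, hcb, add_smul]
        have h1 := (X.mem_basicOpen _ _ hyV).1 ((gen_inf_eq_basicOpen he (a + b) _ hab).le ⟨h, hyV⟩)
        rw [map_add] at h1
        rcases IsLocalRing.isUnit_or_isUnit_of_isUnit_add h1 with h2 | h2
        · exact ha ((gen_inf_eq_basicOpen he a ca hca).ge ((X.mem_basicOpen _ _ hyV).2 h2)).1
        · exact hb ((gen_inf_eq_basicOpen he b cb hcb).ge ((X.mem_basicOpen _ _ hyV).2 h2)).1
      smul_mem' := fun c a ha h => by
        obtain ⟨V, e, hyV, he⟩ := exists_gen hL i.1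
        obtain ⟨ca, hca⟩ := exists_coeff he (L.presheaf.map (homOfLE le_top).op a)
        have hab : L.presheaf.map (homOfLE (le_top : V ≤ ⊤)).op (φ c • a) =
            (X.presheaf.map (homOfLE (le_top : V ≤ ⊤)).op (φ c) * ca) • e := by
          rw [Scheme.Modules.map_smul, hca, smul_smul]
        have h1 := (gen_inf_eq_basicOpen he (φ c • a) _ hab).le ⟨h, hyV⟩
        rw [Scheme.basicOpen_mul] at h1
        exact ha ((gen_inf_eq_basicOpen he a ca hca).ge h1.2).1 }
  have hne : ⊤ ∉ Finset.univ.image P := by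
    intro h
    obtain ⟨i, -, hi⟩ := Finset.mem_image.1 h
    obtain ⟨g, hg⟩ := exists_mem_gen_of_isGloballyGenerated hL hgg i.1
    exact (hi.ge (Submodule.mem_top (x := g))) hg
  obtain ⟨g, hg⟩ := (Set.ne_univ_iff_exists_notMem _).1 (Subspace.biUnion_ne_univ_of_top_notMem hne)
  refine ⟨g, fun y hy => ?_⟩
  by_contra h
  exact hg (Set.mem_iUnion₂.2 ⟨P ⟨y, hy⟩, Finset.mem_image_of_mem P (Finset.mem_univ _), h⟩)

end Groth.Agent.H29GenusOne.NormalGen
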